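import Groth.Agent.RedCentre.FibreProduct
import Groth.Agent.MultTypeExt.Main
import Groth.Agent.H23.GeomConn
import Groth.Prelude.Def_RedSub

/-!
# Central homomorphisms of multiplicative type into the quotient by a reductive centre
-/

set_option backward.isDefEq.respectTransparency false
set_option backward.isDefEq.respectTransparency.types false

universe u

open CategoryTheory CategoryTheory.Limits MonoidalCategory CartesianMonoidalCategory MonObj GrpObj AlgebraicGeometry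
open scoped CategoryTheory.MonObj

namespace Groth.Agent.RedCentre

open MultTypeExt (mono_of_isKernel comp_eq_one exists_lift ext_lift)
open Groth.Agent.DSPtsLib (theta theta_mul theta_bijective)

variable {S : Scheme.{u}}

/-- The subgroup of a quotient is the kernel. -/
theorem isKernel_of_isQuotient {G Z Q : Over S} [GrpObj G] [GrpObj Z] [GrpObj Q] (z : Z ⟶ G) (q : G ⟶ Q)
    [IsMonHom q] (hq : RedSub.IsQuotient z q) : AlgGrp.IsKernel z q := by
  obtain ⟨-, -, -, hpb⟩ := hq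
  have hm : (G ◁ z) ≫ μ[G] = fst G Z * (snd G Z ≫ z) := by
    rw [Hom.mul_def]
    congr 1
  rw [hm] at hpb
  have hl : ∀ {T : Over S} (x : T ⟶ Z), lift (1 : T ⟶ G) x ≫ (fst G Z * (snd G Z ≫ z)) = x ≫ z := fun x => by
    rw [MonObj.comp_mul, lift_fst, lift_snd_assoc, _root_.one_mul]
  have hw : z ≫ q = toUnit Z ≫ η[Q] := by
    have h := congrArg (lift (1 : Z ⟶ G) (𝟙 Z) ≫ ·) hpb.w
    rw [← Category.assoc, ← Category.assoc, hl, lift_fst, Category.id_comp, MonObj.one_comp q, Hom.one_def] at h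
    exact h.symm
  have hc : ∀ s : PullbackCone q η[Q], (1 : s.pt ⟶ G) ≫ q = s.fst ≫ q := fun s => by
    rw [s.condition, MonObj.one_comp q, Hom.one_def, toUnit_unique s.snd (toUnit _)]
  refine ⟨⟨hw⟩, ⟨PullbackCone.IsLimit.mk _ (fun s => hpb.lift 1 s.fst (hc s) ≫ snd G Z)
    (fun s => ?_) (fun s => toUnit_unique _ _) (fun s m h₁ _ => ?_)⟩⟩
  · have h1 := hpb.lift_fst 1 s.fst (hc s)
    have h2 := hpb.lift_snd 1 s.fst (hc s)
    rw [MonObj.comp_mul, h1, _root_.one_mul] at h2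
    rw [Category.assoc]
    exact h2
  · have : lift (1 : s.pt ⟶ G) m = hpb.lift 1 s.fst (hc s) :=
      hpb.hom_ext (by rw [lift_fst, hpb.lift_fst]) (by rw [hl, hpb.lift_snd, h₁])
    rw [← this, lift_snd]

/-- Connected fibres of a group scheme stay connected after base change. -/
theorem isConnected_fibre_bc {S' : Scheme.{u}} (f : S' ⟶ S) (G : Over S) [GrpObj G]
    (h : ∀ s : S, _root_.IsConnected (G.hom.base ⁻¹' {s})) (s' : S') :
    _root_.IsConnected ((Red.bc f G).hom.base ⁻¹' {s'}) := by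
  haveI : GeometricallyConnected G.hom := H23.GeomConn.of_grp G fun s => by
    haveI := isConnected_iff_connectedSpace.mp (h s)
    exact (G.hom.fiberHomeo s).symm.surjective.connectedSpace (G.hom.fiberHomeo s).symm.continuous
  haveI : GeometricallyConnected (Red.bc f G).hom :=
    MorphismProperty.pullback_snd (P := @GeometricallyConnected) _ _ ‹_›
  haveI : ConnectedSpace ↥((Red.bc f G).hom.fiber s') :=
    GeometricallyConnected.geometrically_connectedSpace (f := (Red.bc f G).hom) (S'.fromSpecResidueField s') _ _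
      (IsPullback.of_hasPullback _ _)
  exact isConnected_iff_connectedSpace.mpr
    (((Red.bc f G).hom.fiberHomeo s').surjective.connectedSpace ((Red.bc f G).hom.fiberHomeo s').continuous)

/-- The preimage of a central group of multiplicative type under a quotient by a central group of multiplicative
type is central and of multiplicative type, in a group with connected fibres. -/
theorem preimage_central {G Z G' H P : Over S} [GrpObj G] [GrpObj Z] [GrpObj G'] [GrpObj H] [GrpObj P] (z : Z ⟶ G)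
    [IsMonHom z] (q : G ⟶ G') [IsMonHom q] [Flat q.left] [Surjective q.left] [QuasiCompact q.left]
    (hker : AlgGrp.IsKernel z q) (hZ : SGA3x.IsMultTypeFT Z)
    (hcen : ∀ (X : Over S) (x : X ⟶ Z) (g : X ⟶ G), (x ≫ z) * g = g * (x ≫ z))
    (hconn : ∀ s : S, _root_.IsConnected (G.hom.base ⁻¹' {s}))
    (hH : SGA3x.IsMultTypeFT H) (v : H ⟶ G') [IsMonHom v]
    (hv : ∀ (X : Over S) (x : X ⟶ H) (g : X ⟶ G'), (x ≫ v) * g = g * (x ≫ v))
    (a : P ⟶ G) [IsMonHom a] (b : P ⟶ H) [IsMonHom b] (hP : IsPullback a b q v) :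
    SGA3x.IsMultTypeFT P ∧ ∀ (X : Over S) (x : X ⟶ P) (g : X ⟶ G), (x ≫ a) * g = g * (x ≫ a) := by
  haveI := mono_of_isKernel hker
  have hw : a ≫ q = b ≫ v := hP.w
  have hPl := hP.map (Over.forget S)
  haveI : Flat b.left := MorphismProperty.of_isPullback (P := @Flat) hPl ‹_›
  haveI : Surjective b.left := MorphismProperty.of_isPullback (P := @Surjective) hPl ‹_›
  haveI : QuasiCompact b.left := MorphismProperty.of_isPullback (P := @QuasiCompact) hPl ‹_›
  -- the kernel of the projection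
  let i : Z ⟶ P := hP.lift z 1 (by rw [MonObj.one_comp v]; exact hker.w.trans Hom.one_def.symm)
  have hia : i ≫ a = z := hP.lift_fst _ _ _
  have hib : i ≫ b = 1 := hP.lift_snd _ _ _
  haveI : Mono (lift a b) := ⟨fun f g h => hP.hom_ext
    (by simpa using congrArg (· ≫ fst G H) h) (by simpa using congrArg (· ≫ snd G H) h)⟩
  haveI : IsMonHom i :=
    { one_hom := hP.hom_ext (by rw [Category.assoc, hia, IsMonHom.one_hom, IsMonHom.one_hom])
        (by rw [Category.assoc, hib, MonObj.comp_one, IsMonHom.one_hom, MonObj.one_eq_one])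
      mul_hom := hP.hom_ext
        (by rw [Category.assoc, hia, IsMonHom.mul_hom, Category.assoc, IsMonHom.mul_hom a,
          MonoidalCategory.tensorHom_comp_tensorHom_assoc, hia])
        (by rw [Category.assoc, hib, MonObj.comp_one, Category.assoc, IsMonHom.mul_hom b,
          MonoidalCategory.tensorHom_comp_tensorHom_assoc, hib,
          ← lift_fst_comp_snd_comp, ← Hom.mul_def, MonObj.comp_one, MonObj.comp_one, _root_.mul_one]) }
  have hkb : AlgGrp.IsKernel i b := by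
    refine ⟨⟨hib.trans Hom.one_def⟩, ⟨PullbackCone.IsLimit.mk _
      (fun s => hker.lift (s.fst ≫ a) (toUnit _) (by
        rw [Category.assoc, hw, ← Category.assoc, s.condition, toUnit_unique s.snd (toUnit _), ← Hom.one_def,
          MonObj.one_comp v]
        exact Hom.one_def))
      (fun s => ?_) (fun s => toUnit_unique _ _) (fun s m h₁ _ => ?_)⟩⟩
    · refine hP.hom_ext ?_ ?_
      · rw [Category.assoc, hia, hker.lift_fst]
      · rw [Category.assoc, hib, MonObj.comp_one, s.condition, toUnit_unique s.snd (toUnit _), ← Hom.one_def]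
    · rw [← cancel_mono z, hker.lift_fst, ← h₁, Category.assoc, hia]
  haveI := (MultTypeExt.isAffineHom_and_lfp hkb hZ).2
  -- the commutators
  obtain ⟨c, hc⟩ := exists_lift hker ((fst P G ≫ a) * snd P G * (fst P G ≫ a)⁻¹ * (snd P G)⁻¹) (by
    rw [MonObj.mul_comp _ _ q, MonObj.mul_comp _ _ q, MonObj.mul_comp _ _ q, GrpObj.inv_comp, GrpObj.inv_comp,
      Category.assoc, hw, ← Category.assoc, hv _ (fst P G ≫ b) (snd P G ≫ q), mul_inv_cancel_right, mul_inv_cancel])
  have hpt : ∀ (X : Over S) (e : X ⟶ P) (g : X ⟶ G), (lift e g ≫ c) ≫ z = (e ≫ a) * g * (e ≫ a)⁻¹ * g⁻¹ :=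
    fun X e g => by
      rw [Category.assoc, hc, MonObj.comp_mul, MonObj.comp_mul, MonObj.comp_mul, GrpObj.comp_inv, GrpObj.comp_inv,
        lift_fst_assoc, lift_snd]
  have hinv : ∀ (Y : Over S) (n : Y ⟶ Z) (e : Y ⟶ P) (g : Y ⟶ G), lift ((n ≫ i) * e) g ≫ c = lift e g ≫ c :=
    fun Y n e g => by
      rw [← cancel_mono z, hpt, hpt, MonObj.mul_comp _ _ a, Category.assoc, hia]
      calc (n ≫ z) * (e ≫ a) * g * ((n ≫ z) * (e ≫ a))⁻¹ * g⁻¹
          = (n ≫ z) * ((e ≫ a) * g * (e ≫ a)⁻¹) * (n ≫ z)⁻¹ * g⁻¹ := by group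
        _ = _ := by rw [hcen Y n ((e ≫ a) * g * (e ≫ a)⁻¹), mul_inv_cancel_right]
  have hmul : ∀ (Y : Over S) (e₁ e₂ : Y ⟶ P) (g : Y ⟶ G),
      lift (e₁ * e₂) g ≫ c = (lift e₁ g ≫ c) * (lift e₂ g ≫ c) := fun Y e₁ e₂ g => by
    rw [← cancel_mono z, MonObj.mul_comp _ _ z, hpt Y e₁ g, hpt Y (e₁ * e₂) g, MonObj.mul_comp _ _ a]
    calc (e₁ ≫ a) * (e₂ ≫ a) * g * ((e₁ ≫ a) * (e₂ ≫ a))⁻¹ * g⁻¹
        = (e₁ ≫ a) * ((e₂ ≫ a) * g * (e₂ ≫ a)⁻¹ * g⁻¹) * (g * (e₁ ≫ a)⁻¹ * g⁻¹) := by group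
      _ = ((e₂ ≫ a) * g * (e₂ ≫ a)⁻¹ * g⁻¹) * (e₁ ≫ a) * (g * (e₁ ≫ a)⁻¹ * g⁻¹) := by rw [← hpt Y e₂ g, hcen]
      _ = ((e₂ ≫ a) * g * (e₂ ≫ a)⁻¹ * g⁻¹) * ((e₁ ≫ a) * g * (e₁ ≫ a)⁻¹ * g⁻¹) := by group
      _ = _ := by rw [← hpt Y e₂ g, hcen Y _ ((e₁ ≫ a) * g * (e₁ ≫ a)⁻¹ * g⁻¹)]
  obtain ⟨e, he⟩ := GrpSchLib.MultTypeRigid.exists_desc i b hkb c fun Y h n g => hinv Y n h g
  have hfam : AutFam.IsHomFamily H Z e := fun X g₁ g₂ t => by
    refine ext_lift (p := b) g₁ _ _ fun X₁ π a₁ h₁ => ext_lift (p := b) (π ≫ g₂) _ _ fun X₂ π' a₂ h₂ => ?_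
    have e1 : (π' ≫ a₁) ≫ b = π' ≫ π ≫ g₁ := by rw [Category.assoc, h₁]
    have e12 : ((π' ≫ a₁) * a₂) ≫ b = (π' ≫ π ≫ g₁) * (π' ≫ π ≫ g₂) := by
      rw [MonObj.mul_comp _ _ b, h₂, e1]
    simp only [comp_lift_assoc, MonObj.comp_mul]
    rw [← e12, ← e1, ← h₂, he, he, he, hmul]
  have he1 : e = 1 := by
    refine MultTypeExt.family_eq_one (𝟙 G) hH hZ e hfam ?_ (fun R r₁ r₂ hr => ?_) fun s => Or.inl (hconn s)
    · refine ext_lift (p := b) (fst H (𝟙_ (Over S))) _ _ fun X' π e' h => ?_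
      rw [MonObj.comp_one, show π = lift (e' ≫ b) (toUnit X') from
        CartesianMonoidalCategory.hom_ext _ _ (by rw [lift_fst, h]) (toUnit_unique _ _),
        lift_whiskerLeft_assoc, ← Hom.one_def, he, ← cancel_mono z, hpt, MonObj.one_comp z, _root_.mul_one,
        inv_one, _root_.mul_one, mul_inv_cancel]
    · rw [Category.comp_id, Category.comp_id] at hr
      rw [hr]
  have hcomm : ∀ (X : Over S) (x : X ⟶ P) (g : X ⟶ G), (x ≫ a) * g = g * (x ≫ a) := fun X x g => by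
    have h := hpt X x g
    rw [← he X x g, he1, MonObj.comp_one, MonObj.one_comp z] at h
    exact mul_inv_eq_iff_eq_mul.mp (mul_inv_eq_one.mp h.symm)
  have hmult : SGA3x.IsMultTypeFT P := by
    refine MultTypeExt.isMultTypeFT_of_comm_extension P Z H b i hkb hZ hH fun X x y => hP.hom_ext ?_ ?_
    · rw [MonObj.mul_comp _ _ a, MonObj.mul_comp _ _ a, hcomm X x (y ≫ a)]
    · rw [MonObj.mul_comp _ _ b, MonObj.mul_comp _ _ b, TorusQI.mul_comm_of_multType hH]
  exact ⟨hmult, hcomm⟩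

/-- A central homomorphism from a group of multiplicative type to the quotient by a reductive centre is trivial. -/
theorem central_hom_eq_one {G Z G' H : Over S} [GrpObj G] [GrpObj Z] [GrpObj G'] [GrpObj H] (z : Z ⟶ G) [IsMonHom z]
    (q : G ⟶ G') [IsMonHom q] [Flat q.left] [Surjective q.left] [QuasiCompact q.left] (hker : AlgGrp.IsKernel z q)
    (hZ : SGA3x.IsMultTypeFT Z)
    (hcen : ∀ (X : Over S) (x : X ⟶ Z) (g : X ⟶ G), (x ≫ z) * g = g * (x ≫ z))
    (hconn : ∀ s : S, _root_.IsConnected (G.hom.base ⁻¹' {s}))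
    (huniv : ∀ (E : Over S) [GrpObj E] (u : E ⟶ G) [IsMonHom u], SGA3x.IsMultTypeFT E →
      (∀ (X : Over S) (x : X ⟶ E) (g : X ⟶ G), (x ≫ u) * g = g * (x ≫ u)) → ∃ w : E ⟶ Z, w ≫ z = u)
    (hH : SGA3x.IsMultTypeFT H) (v : H ⟶ G') [IsMonHom v]
    (hv : ∀ (X : Over S) (x : X ⟶ H) (g : X ⟶ G'), (x ≫ v) * g = g * (x ≫ v)) : v = 1 := by
  obtain ⟨_, _, _⟩ := exists_grpObj_pullback q v (IsPullback.of_hasPullback q v)
  obtain ⟨hmult, hcomm⟩ := preimage_central z q hker hZ hcen hconn hH v hv (pullback.fst q v) (pullback.snd q v)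
    (IsPullback.of_hasPullback q v)
  obtain ⟨w, hwz⟩ := huniv _ (pullback.fst q v) hmult hcomm
  have hPl := (IsPullback.of_hasPullback q v).map (Over.forget S)
  haveI : Flat (pullback.snd q v).left := MorphismProperty.of_isPullback (P := @Flat) hPl ‹_›
  haveI : Surjective (pullback.snd q v).left := MorphismProperty.of_isPullback (P := @Surjective) hPl ‹_›
  haveI : QuasiCompact (pullback.snd q v).left := MorphismProperty.of_isPullback (P := @QuasiCompact) hPl ‹_›
  haveI : Epi (pullback.snd q v).left := Flat.epi_of_flat_of_surjective _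
  haveI : Epi (pullback.snd q v) := Over.epi_of_epi_left _
  rw [← cancel_epi (pullback.snd q v), ← pullback.condition, ← hwz, comp_eq_one hker, MonObj.comp_one]

end Groth.Agent.RedCentre
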