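import Groth.Agent.GrpSchLib.MonoSubgroup
import Mathlib.CategoryTheory.Monoidal.Cartesian.Grp
import Mathlib.AlgebraicGeometry.Pullbacks
import Mathlib.CategoryTheory.Limits.Constructions.Over.Connected
import Mathlib.CategoryTheory.Limits.Shapes.Pullback.IsPullback.Basic

/-! Fibre products of group objects. -/

open CategoryTheory CategoryTheory.Limits MonoidalCategory CartesianMonoidalCategory MonObj GrpObj
open scoped MonObj

namespace Groth.Agent.RedCentre

universe v u

variable {C : Type u} [Category.{v} C] [CartesianMonoidalCategory C] [BraidedCategory C]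

/-- The fibre product of two homomorphisms of group objects is a group object. -/
theorem exists_grpObj_pullback {G H Q P : C} [GrpObj G] [GrpObj H] [GrpObj Q] (q : G ⟶ Q) [IsMonHom q] (v : H ⟶ Q)
    [IsMonHom v] {a : P ⟶ G} {b : P ⟶ H} (hP : IsPullback a b q v) :
    ∃ (_ : GrpObj P), IsMonHom a ∧ IsMonHom b := by
  obtain ⟨η', h1, h2⟩ := hP.exists_lift η[G] η[H] (by rw [IsMonHom.one_hom, IsMonHom.one_hom])
  obtain ⟨μ', h3, h4⟩ := hP.exists_lift ((fst P P ≫ a) * (snd P P ≫ a)) ((fst P P ≫ b) * (snd P P ≫ b)) (by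
    rw [MonObj.mul_comp _ _ q, MonObj.mul_comp _ _ v]
    simp only [Category.assoc, hP.w])
  obtain ⟨ι', h5, h6⟩ := hP.exists_lift a⁻¹ b⁻¹ (by rw [GrpObj.inv_comp, GrpObj.inv_comp, hP.w])
  haveI : Mono (lift a b) := ⟨fun f g h => hP.hom_ext
    (by simpa using congrArg (· ≫ fst G H) h) (by simpa using congrArg (· ≫ snd G H) h)⟩
  have hη : η' ≫ lift a b = η[G ⊗ H] := by
    rw [comp_lift, h1, h2]
    apply CartesianMonoidalCategory.hom_ext <;> simp
  have hproj : ∀ {T : C} (f g : T ⟶ G ⊗ H), (f * g) ≫ fst G H = (f ≫ fst G H) * (g ≫ fst G H) ∧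
      (f * g) ≫ snd G H = (f ≫ snd G H) * (g ≫ snd G H) :=
    fun f g => ⟨MonObj.mul_comp _ _ _, MonObj.mul_comp _ _ _⟩
  have hμ : μ' ≫ lift a b = (fst P P ≫ lift a b) * (snd P P ≫ lift a b) := by
    apply CartesianMonoidalCategory.hom_ext
    · rw [(hproj _ _).1, Category.assoc, Category.assoc, Category.assoc, lift_fst, h3]
    · rw [(hproj _ _).2, Category.assoc, Category.assoc, Category.assoc, lift_snd, h4]
  have hι : ι' ≫ lift a b = (lift a b)⁻¹ := by
    apply CartesianMonoidalCategory.hom_ext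
    · rw [GrpObj.inv_comp, Category.assoc, lift_fst, h5]
    · rw [GrpObj.inv_comp, Category.assoc, lift_snd, h6]
  obtain ⟨str, hstr⟩ := GrpSchLib.exists_grpObj_of_mono (lift a b) η' hη μ' hμ ι' hι
  letI := str
  haveI := hstr
  refine ⟨str, ?_, ?_⟩
  · rw [show a = lift a b ≫ fst G H from (lift_fst _ _).symm]
    infer_instance
  · rw [show b = lift a b ≫ snd G H from (lift_snd _ _).symm]
    infer_instance

end Groth.Agent.RedCentre
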